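/-
Coordinates in the fixed unipotent subgroup of twisted D4 in characteristic two.
-/
import Cfsg.Agent.Lib.Chev.Twist.Fam.D4
import Cfsg.Agent.Lib.Chev.Orders

set_option autoImplicit false
set_option maxRecDepth 100000

namespace CfsgLib.Chev.D43Invol

open Cfsg.Lie Matrix CfsgLib.Chev

variable {K : Type*} [Field K]

local notation "g₄" => stdD4.good

/-- root elements of type D4 -/
noncomputable abbrev X (r : ℕ) (t : K) : GL chevD4.Idx K := xG g₄ r t

/-- the ordering by orbits -/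
def ord : List ℕ := [14, 18, 13, 12, 15, 19, 16, 17, 20, 21, 22, 23]

/-- ordered pairs of roots with a root as sum -/
def sums : List (ℕ × ℕ × ℕ) :=
  [(14, 12, 15), (14, 13, 16), (14, 18, 19), (12, 16, 17), (13, 15, 17), (12, 19, 20), (18, 15, 20),
   (13, 19, 21), (18, 16, 21), (12, 21, 22), (13, 20, 22), (18, 17, 22), (14, 22, 23), (15, 21, 23),
   (16, 20, 23), (19, 17, 23)]

/-- the first root comes earlier and the two commute -/
def okNil (r s : ℕ) : Bool :=
  ord.contains r && ord.contains s && decide (ord.idxOf r < ord.idxOf s) &&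
    sums.all fun p => !(p.1 == r && p.2.1 == s)

lemma nil_data : ∀ r ∈ ord, ∀ s ∈ ord, okNil r s = true → commPair chevD4 auxD4 r s = true := by
  decide +kernel

lemma sum_data : ∀ p ∈ sums, p.1 < chevD4.nroots ∧ p.2.1 < chevD4.nroots ∧ p.2.1 ≠ p.1 ∧
    p.2.1 ≠ auxD4.neg p.1 ∧ (auxD4.terms p.1 p.2.1 = [(p.2.2, 1, 1, 1)] ∨
      auxD4.terms p.1 p.2.1 = [(p.2.2, -1, 1, 1)]) := by
  decide +kernel

lemma swN {r s : ℕ} (h : okNil r s = true) (t u : K) : X s u * X r t = 1 * (X r t * X s u) := by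
  have h' := h
  simp only [okNil, Bool.and_eq_true, List.contains_iff_mem] at h'
  rw [one_mul]
  exact (commute_xG stdD4 (nil_data r h'.1.1.1 s h'.1.1.2 h) t u).symm.eq

lemma swN' {r s : ℕ} (h : okNil r s = true) (t u : K) (z : GL chevD4.Idx K) :
    X s u * (X r t * z) = 1 * (X r t * (X s u * z)) := by
  rw [← mul_assoc, swN h, one_mul, one_mul, mul_assoc]

variable [CharP K 2]

lemma sw {r s w : ℕ} (h : (r, s, w) ∈ sums) (t u : K) :
    X s u * X r t = X r t * (X s u * X w (t * u)) := by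
  obtain ⟨hr, hs, hne, hnn, hT⟩ := sum_data _ h
  have := xG_swap stdD4 hr hs hne hnn t u
  rcases hT with hT | hT <;> rw [hT] at this <;>
    simpa [CharTwo.neg_eq, mul_assoc] using this

lemma sw' {r s w : ℕ} (h : (r, s, w) ∈ sums) (t u : K) (z : GL chevD4.Idx K) :
    X s u * (X r t * z) = X r t * (X s u * (X w (t * u) * z)) := by
  rw [← mul_assoc, sw h, mul_assoc, mul_assoc]

lemma s14_12 (t u : K) : X 12 u * X 14 t = X 14 t * (X 12 u * X 15 (t * u)) := sw (by decide) t u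
lemma s14_13 (t u : K) : X 13 u * X 14 t = X 14 t * (X 13 u * X 16 (t * u)) := sw (by decide) t u
lemma s14_18 (t u : K) : X 18 u * X 14 t = X 14 t * (X 18 u * X 19 (t * u)) := sw (by decide) t u
lemma s12_16 (t u : K) : X 16 u * X 12 t = X 12 t * (X 16 u * X 17 (t * u)) := sw (by decide) t u
lemma s13_15 (t u : K) : X 15 u * X 13 t = X 13 t * (X 15 u * X 17 (t * u)) := sw (by decide) t u
lemma s12_19 (t u : K) : X 19 u * X 12 t = X 12 t * (X 19 u * X 20 (t * u)) := sw (by decide) t u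
lemma s18_15 (t u : K) : X 15 u * X 18 t = X 18 t * (X 15 u * X 20 (t * u)) := sw (by decide) t u
lemma s13_19 (t u : K) : X 19 u * X 13 t = X 13 t * (X 19 u * X 21 (t * u)) := sw (by decide) t u
lemma s18_16 (t u : K) : X 16 u * X 18 t = X 18 t * (X 16 u * X 21 (t * u)) := sw (by decide) t u
lemma s12_21 (t u : K) : X 21 u * X 12 t = X 12 t * (X 21 u * X 22 (t * u)) := sw (by decide) t u
lemma s13_20 (t u : K) : X 20 u * X 13 t = X 13 t * (X 20 u * X 22 (t * u)) := sw (by decide) t u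
lemma s18_17 (t u : K) : X 17 u * X 18 t = X 18 t * (X 17 u * X 22 (t * u)) := sw (by decide) t u
lemma s14_22 (t u : K) : X 22 u * X 14 t = X 14 t * (X 22 u * X 23 (t * u)) := sw (by decide) t u
lemma s15_21 (t u : K) : X 21 u * X 15 t = X 15 t * (X 21 u * X 23 (t * u)) := sw (by decide) t u
lemma s16_20 (t u : K) : X 20 u * X 16 t = X 16 t * (X 20 u * X 23 (t * u)) := sw (by decide) t u
lemma s19_17 (t u : K) : X 17 u * X 19 t = X 19 t * (X 17 u * X 23 (t * u)) := sw (by decide) t u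

lemma push {G : Type*} [Monoid G] {a b c : G} (h : a * b = c) (z : G) : a * (b * z) = c * z := by
  rw [← mul_assoc, h]

omit [CharP K 2] in
lemma mm (r : ℕ) (t u : K) : X r t * X r u = X r (t + u) := xG_add g₄ r t u

omit [CharP K 2] in
lemma X_zero (r : ℕ) : X r (0 : K) = 1 := xG_zero g₄ r

/-- collection of products into the orbit ordering -/
macro "sortX" : tactic => `(tactic|
  simp (disch := decide) only [mul_assoc, swN, swN', s14_12, push (s14_12 _ _), s14_13, push (s14_13 _ _),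
    s14_18, push (s14_18 _ _), s12_16, push (s12_16 _ _), s13_15, push (s13_15 _ _), s12_19, push (s12_19 _ _),
    s18_15, push (s18_15 _ _), s13_19, push (s13_19 _ _), s18_16, push (s18_16 _ _), s12_21, push (s12_21 _ _),
    s13_20, push (s13_20 _ _), s18_17, push (s18_17 _ _), s14_22, push (s14_22 _ _), s15_21, push (s15_21 _ _),
    s16_20, push (s16_20 _ _), s19_17, push (s19_17 _ _), mm, push (mm _ _ _), one_mul, mul_one])

/-- three values for one orbit -/
abbrev T3 (K : Type*) := K × K × K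

/-- products in the orbit ordering -/
noncomputable def Z (b : K) (a c d : T3 K) (e f : K) : GL chevD4.Idx K :=
  X 14 b * (X 18 a.1 * (X 13 a.2.1 * (X 12 a.2.2 * (X 15 c.1 * (X 19 c.2.1 * (X 16 c.2.2 *
    (X 17 d.1 * (X 20 d.2.1 * (X 21 d.2.2 * (X 22 e * X 23 f))))))))))

omit [CharP K 2] in
lemma posRoots_eq : chevD4.posRoots = [12, 13, 14, 15, 16, 17, 18, 19, 20, 21, 22, 23] := by
  decide +kernel

/-- every element of `U` has coordinates -/
lemma exists_Z {y : GL chevD4.Idx K} (hy : y ∈ chevD4.posUnipotent K) :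
    ∃ b a c d e f, y = Z b a c d e f := by
  rw [← UL_posRoots g₄] at hy
  obtain ⟨T, rfl⟩ := exists_pw stdD4 upList_posRoots hy
  simp only [pw, posRoots_eq, List.map_cons, List.map_nil, List.prod_cons, List.prod_nil]
  sortX
  exact ⟨_, (_, _, _), (_, _, _), (_, _, _), _, _, rfl⟩

variable [Fintype K]

omit [CharP K 2] in
lemma Z_mem (b : K) (a c d : T3 K) (e f : K) : Z b a c d e f ∈ chevD4.posUnipotent K := by
  have h : ∀ r ∈ ord, ∀ t : K, X r t ∈ chevD4.posUnipotent K := fun r hr t =>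
    xG_mem_posUnipotent g₄ (posRoots_mem.1 (by
      rw [posRoots_eq]; revert r; decide)) t
  unfold Z
  repeat' apply mul_mem
  all_goals exact h _ (by decide) _

/-- the coordinates are unique -/
lemma Z_inj {b : K} {a c d : T3 K} {e f b' : K} {a' c' d' : T3 K} {e' f' : K}
    (h : Z b a c d e f = Z b' a' c' d' e' f') :
    b = b' ∧ a = a' ∧ c = c' ∧ d = d' ∧ e = e' ∧ f = f' := by
  classical
  let P := K × T3 K × T3 K × T3 K × K × K
  let m : P → ↥(chevD4.posUnipotent K) := fun p =>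
    ⟨Z p.1 p.2.1 p.2.2.1 p.2.2.2.1 p.2.2.2.2.1 p.2.2.2.2.2, Z_mem _ _ _ _ _ _⟩
  haveI : Finite (GL chevD4.Idx K) := finite_GL
  have hb : Function.Bijective m := by
    rw [Nat.bijective_iff_surjective_and_card]
    refine ⟨fun y => ?_, ?_⟩
    · obtain ⟨b, a, c, d, e, f, hy⟩ := exists_Z y.2
      exact ⟨(b, a, c, d, e, f), Subtype.ext hy.symm⟩
    · rw [card_posUnipotent stdD4, show chevD4.nroots / 2 = 12 from rfl]
      simp only [P, T3, Nat.card_eq_fintype_card, Fintype.card_prod]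
      ring
  have := hb.1 (a₁ := (b, a, c, d, e, f)) (a₂ := (b', a', c', d', e', f')) (Subtype.ext h)
  simpa [P, T3] using this

variable {σ : K →+* K}

/-- the orbit triple -/
def tr (σ : K →+* K) (a : K) : T3 K := (a, σ a, σ (σ a))

/-- fixed products -/
noncomputable def P (σ : K →+* K) (b a c d e f : K) : GL chevD4.Idx K :=
  Z b (tr σ a) (tr σ c) (tr σ d) e f

omit [Fintype K] in
lemma maps_X {r : ℕ} (hr : r < chevD4.nroots) (t : K) :
    (D43.tw σ).Maps (X r t) (X (foldD43.r r) (σ t)) := by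
  have h := (D43.tw σ).maps_xG hr t
  have he : symD4a.e r = 1 ∨ symD4a.e r = -1 :=
    (show ∀ r < chevD4.nroots, symD4a.e r = 1 ∨ symD4a.e r = -1 by decide +kernel) r hr
  have hp : (D43.tw σ).phi r t = σ t := by
    show (symD4a.e r : K) * σ t = σ t
    rcases he with e | e <;> simp [e, CharTwo.neg_eq]
  rwa [hp] at h

omit [Fintype K] in
lemma maps_Z (b : K) (a c d : T3 K) (e f : K) : (D43.tw σ).Maps (Z b a c d e f)
    (Z (σ b) (σ a.2.2, σ a.1, σ a.2.1) (σ c.2.2, σ c.1, σ c.2.1) (σ d.2.2, σ d.1, σ d.2.1) (σ e) (σ f)) := by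
  have key : ∀ r ∈ ord, r < chevD4.nroots := by decide +kernel
  have hm : ∀ r r', (r ∈ ord ∧ foldD43.r r = r') → ∀ t : K, (D43.tw σ).Maps (X r t) (X r' (σ t)) :=
    fun r r' h t => h.2 ▸ maps_X (key r h.1) t
  have hh := Twist.Maps.mul _ (hm 14 14 (by decide +kernel) b) (Twist.Maps.mul _ (hm 18 13 (by decide +kernel) a.1)
    (Twist.Maps.mul _ (hm 13 12 (by decide +kernel) a.2.1) (Twist.Maps.mul _ (hm 12 18 (by decide +kernel) a.2.2)
    (Twist.Maps.mul _ (hm 15 19 (by decide +kernel) c.1) (Twist.Maps.mul _ (hm 19 16 (by decide +kernel) c.2.1)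
    (Twist.Maps.mul _ (hm 16 15 (by decide +kernel) c.2.2) (Twist.Maps.mul _ (hm 17 20 (by decide +kernel) d.1)
    (Twist.Maps.mul _ (hm 20 21 (by decide +kernel) d.2.1) (Twist.Maps.mul _ (hm 21 17 (by decide +kernel) d.2.2)
    (Twist.Maps.mul _ (hm 22 22 (by decide +kernel) e) (hm 23 23 (by decide +kernel) f)))))))))))
  unfold Z at hh ⊢
  dsimp only
  convert hh using 1
  symm
  sortX

variable (hinv : ∀ x, σ (σ (σ x)) = x)

include hinv in
omit [Fintype K] in
lemma P_fix {b e f : K} (hb : σ b = b) (a c d : K) (he : σ e = e) (hf : σ f = f) :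
    P σ b a c d e f ∈ (D43.tw σ).fix := by
  have h := maps_Z (σ := σ) b (tr σ a) (tr σ c) (tr σ d) e f
  simp only [tr, hinv, hb, he, hf] at h
  exact h

/-- fixed elements of `U` -/
lemma exists_P {y : GL chevD4.Idx K} (hy : y ∈ chevD4.posUnipotent K) (hf : y ∈ (D43.tw σ).fix) :
    ∃ b a c d e f, σ b = b ∧ σ e = e ∧ σ f = f ∧ y = P σ b a c d e f := by
  obtain ⟨b, a, c, d, e, f, rfl⟩ := exists_Z hy
  obtain ⟨hb, ha, hc, hd, he, hff⟩ := Z_inj (Twist.Maps.fun_eq _ (maps_Z b a c d e f) hf)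
  obtain ⟨a1, a2, a3⟩ := a
  obtain ⟨c1, c2, c3⟩ := c
  obtain ⟨d1, d2, d3⟩ := d
  simp only [Prod.mk.injEq] at ha hc hd
  exact ⟨b, a1, c1, d1, e, f, hb, he, hff, by
    simp [P, tr, ha.2.1, ha.2.2, hc.2.1, hc.2.2, hd.2.1, hd.2.2]⟩

lemma P_inj {b a c d e f b' a' c' d' e' f' : K} (h : P σ b a c d e f = P σ b' a' c' d' e' f') :
    b = b' ∧ a = a' ∧ c = c' ∧ d = d' ∧ e = e' ∧ f = f' := by
  obtain ⟨h1, h2, h3, h4, h5, h6⟩ := Z_inj h
  exact ⟨h1, congrArg Prod.fst h2, congrArg Prod.fst h3, congrArg Prod.fst h4, h5, h6⟩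

omit [CharP K 2] [Fintype K] in
lemma congr_cons {r : ℕ} {t u : K} {z w : GL chevD4.Idx K} (h : t = u) (h' : z = w) :
    X r t * z = X r u * w := by rw [h, h']

end CfsgLib.Chev.D43Invol
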