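/-
Involutions of twisted D4 in characteristic two: reduction to two representatives.
-/
import Cfsg.Agent.Lib.Chev.D43Invol.Basic

set_option autoImplicit false
set_option maxRecDepth 100000
set_option maxHeartbeats 1000000

namespace CfsgLib.Chev.D43Invol

open Cfsg.Lie Matrix CfsgLib.Chev

variable {K : Type*} [Field K] [CharP K 2] [Fintype K] {σ : K →+* K}

local notation "g₄" => stdD4.good

/-- conjugacy inside the fixed group -/
def Cj (σ : K →+* K) (x y : GL chevD4.Idx K) : Prop := ∃ g ∈ (D43.tw σ).fix, g * x * g⁻¹ = y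

lemma Cj.trans {x y z : GL chevD4.Idx K} (h : Cj σ x y) (h' : Cj σ y z) : Cj σ x z := by
  obtain ⟨g, hg, rfl⟩ := h
  obtain ⟨k, hk, rfl⟩ := h'
  exact ⟨k * g, mul_mem hk hg, by group⟩

variable (K) in
/-- the long representative -/
noncomputable def Lrep : GL chevD4.Idx K := X 23 1

variable (K) in
/-- the short representative -/
noncomputable def Srep : GL chevD4.Idx K := X 15 1 * (X 19 1 * X 16 1)

/-- conjugate to one of the two representatives -/
def Reach (σ : K →+* K) (y : GL chevD4.Idx K) : Prop := Cj σ y (Lrep K) ∨ Cj σ y (Srep K)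

lemma Reach.of_cj {x y : GL chevD4.Idx K} (h : Cj σ x y) : Reach σ y → Reach σ x :=
  Or.imp h.trans h.trans

lemma inv_eq (r : ℕ) (t : K) : (X r t)⁻¹ = X r t := by rw [xG_inv, CharTwo.neg_eq]

/-- a fixed unipotent involution, or the identity -/
def Nice (σ : K →+* K) (y : GL chevD4.Idx K) : Prop :=
  y ∈ chevD4.posUnipotent K ∧ y ∈ (D43.tw σ).fix ∧ y * y = 1

lemma one_Z : (1 : GL chevD4.Idx K) = Z 0 (0, 0, 0) (0, 0, 0) (0, 0, 0) 0 0 := by
  simp [Z, X_zero]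

lemma sq_ab {b a c d e f : K} (h : P σ b a c d e f * P σ b a c d e f = 1) : b * a = 0 := by
  unfold P Z tr at h
  revert h
  sortX
  intro h
  have := (Z_inj (a := (_, _, _)) (c := (_, _, _)) (d := (_, _, _)) (h.trans one_Z)).2.2.1
  simp only [Prod.mk.injEq, CharTwo.add_self_eq_zero, add_zero] at this
  exact this.2.1

lemma sq_zero {b c d e f : K} (h : P σ b 0 c d e f * P σ b 0 c d e f = 1) :
    b * e + (σ c * d + σ (σ c) * σ d + c * σ (σ d)) = 0 := by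
  unfold P Z tr at h
  revert h
  sortX
  intro h
  have := (Z_inj (a := (_, _, _)) (c := (_, _, _)) (d := (_, _, _)) (h.trans one_Z)).2.2.2.2.2
  simp only [map_zero, CharTwo.add_self_eq_zero, add_zero, zero_add, mul_zero, zero_mul] at this
  linear_combination this

lemma sq_unit {c d e f : K} (hinv : ∀ x, σ (σ (σ x)) = x) (h : P σ 0 1 c d e f * P σ 0 1 c d e f = 1) :
    σ c = c ∧ c + d + σ d + σ (σ d) = 0 := by
  unfold P Z tr at h
  revert h
  sortX
  intro h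
  obtain ⟨-, -, -, hd, he, -⟩ := Z_inj (a := (_, _, _)) (c := (_, _, _)) (d := (_, _, _)) (h.trans one_Z)
  simp only [Prod.mk.injEq, map_one, map_zero, CharTwo.add_self_eq_zero, add_zero, zero_add, mul_zero,
    zero_mul, one_mul, mul_one] at hd he
  have h1 := congrArg σ hd.1
  simp only [map_add, hinv, map_zero] at h1
  have h2 : σ c = c := CharTwo.add_eq_zero.1 (by linear_combination h1)
  refine ⟨h2, ?_⟩
  rw [h2, h2] at he
  linear_combination he - c * CharTwo.two_eq_zero (R := K)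

variable (hinv : ∀ x, σ (σ (σ x)) = x)

include hinv

lemma conj_P {g y : GL chevD4.Idx K} (hy : Nice σ y) (hgU : g ∈ chevD4.posUnipotent K)
    (hgf : g ∈ (D43.tw σ).fix) (hg : g * g = 1) {b : K} {a c d : T3 K} {e f : K}
    (h : g * y * g = Z b a c d e f) :
    σ b = b ∧ σ e = e ∧ σ f = f ∧ Nice σ (P σ b a.1 c.1 d.1 e f) ∧ Cj σ y (P σ b a.1 c.1 d.1 e f) := by
  have hinv' : g⁻¹ = g := inv_eq_of_mul_eq_one_right hg
  have hc : g * y * g⁻¹ = g * y * g := by rw [hinv']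
  have hfix : g * y * g ∈ (D43.tw σ).fix := mul_mem (mul_mem hgf hy.2.1) hgf
  have hU : g * y * g ∈ chevD4.posUnipotent K := mul_mem (mul_mem hgU hy.1) hgU
  obtain ⟨b', a', c', d', e', f', hb, he, hf, eq⟩ := exists_P hU hfix
  obtain ⟨rfl, rfl, rfl, rfl, rfl, rfl⟩ := Z_inj (h.symm.trans eq)
  have hsq : g * y * g * (g * y * g) = 1 := by
    rw [show g * y * g * (g * y * g) = g * (y * (g * g) * y) * g by group, hg, mul_one, hy.2.2, mul_one, hg]
  refine ⟨hb, he, hf, ?_, g, hgf, hc.trans eq⟩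
  simp only [tr]
  exact eq ▸ ⟨hU, hfix, hsq⟩

/-- orbit element of the short simple root -/
lemma elA (t : K) : let g := X 18 t * (X 13 (σ t) * X 12 (σ (σ t)))
    g ∈ chevD4.posUnipotent K ∧ g ∈ (D43.tw σ).fix ∧ g * g = 1 := by
  intro g
  have e : g = P σ 0 t 0 0 0 0 := by simp [g, P, Z, tr, X_zero]
  refine ⟨e ▸ Z_mem _ _ _ _ _ _, e ▸ P_fix hinv (map_zero σ) _ _ _ (map_zero σ) (map_zero σ), ?_⟩
  simp only [g]
  sortX
  simp [CharTwo.add_self_eq_zero, X_zero]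

/-- orbit element of the second short root -/
lemma elC (t : K) : let g := X 15 t * (X 19 (σ t) * X 16 (σ (σ t)))
    g ∈ chevD4.posUnipotent K ∧ g ∈ (D43.tw σ).fix ∧ g * g = 1 := by
  intro g
  have e : g = P σ 0 0 t 0 0 0 := by simp [g, P, Z, tr, X_zero]
  refine ⟨e ▸ Z_mem _ _ _ _ _ _, e ▸ P_fix hinv (map_zero σ) _ _ _ (map_zero σ) (map_zero σ), ?_⟩
  simp only [g]
  sortX
  simp [CharTwo.add_self_eq_zero, X_zero]

/-- orbit element of the highest short root -/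
lemma elD (t : K) : let g := X 17 t * (X 20 (σ t) * X 21 (σ (σ t)))
    g ∈ chevD4.posUnipotent K ∧ g ∈ (D43.tw σ).fix ∧ g * g = 1 := by
  intro g
  have e : g = P σ 0 0 0 t 0 0 := by simp [g, P, Z, tr, X_zero]
  refine ⟨e ▸ Z_mem _ _ _ _ _ _, e ▸ P_fix hinv (map_zero σ) _ _ _ (map_zero σ) (map_zero σ), ?_⟩
  simp only [g]
  sortX
  simp [CharTwo.add_self_eq_zero, X_zero]

/-- orbit element of a fixed root -/
lemma elL {r : ℕ} (hr : r = 14 ∨ r = 22) {t : K} (ht : σ t = t) :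
    X r t ∈ chevD4.posUnipotent K ∧ X r t ∈ (D43.tw σ).fix ∧ X r t * X r t = 1 := by
  refine ⟨?_, ?_, by rw [mm, CharTwo.add_self_eq_zero, X_zero]⟩ <;> rcases hr with rfl | rfl
  · rw [show X 14 t = P σ t 0 0 0 0 0 by simp [P, Z, tr, X_zero]]; exact Z_mem _ _ _ _ _ _
  · rw [show X 22 t = P σ 0 0 0 0 t 0 by simp [P, Z, tr, X_zero]]; exact Z_mem _ _ _ _ _ _
  · rw [show X 14 t = P σ t 0 0 0 0 0 by simp [P, Z, tr, X_zero]]
    exact P_fix hinv ht _ _ _ (map_zero σ) (map_zero σ)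
  · rw [show X 22 t = P σ 0 0 0 0 t 0 by simp [P, Z, tr, X_zero]]
    exact P_fix hinv (map_zero σ) _ _ _ ht (map_zero σ)

/-- the torus acts on coordinates -/
lemma torus_cj (u v : Kˣ) (hv : σ (v : K) = v) {b a c d e f : K} (hy : Nice σ (P σ b a c d e f)) :
    ∃ b' a' c' d' e' f' : K, Nice σ (P σ b' a' c' d' e' f') ∧
      Cj σ (P σ b a c d e f) (P σ b' a' c' d' e' f') ∧ σ b' = b' ∧ σ e' = e' ∧ σ f' = f' ∧
      (b = 0 → b' = 0) ∧ (a = 0 → a' = 0) ∧ (c = 0 → c' = 0) ∧ (d = 0 → d' = 0) ∧ (e = 0 → e' = 0) ∧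
      a' = (u : K) ^ 2 * (v : K)⁻¹ * a ∧ c' = (u : K)⁻¹ * v * (σ u)⁻¹ * σ (σ u) * c ∧ f' = v * f := by
  let u1 : Kˣ := Units.map σ.toMonoidHom u
  let u2 : Kˣ := Units.map σ.toMonoidHom u1
  let w : Fin chevD4.rank → Kˣ := (![u, v, u1, u2] : Fin 4 → Kˣ)
  have hT : tor chevD4 auxD4 w ∈ chevD4.diagonalSubgroup K ⊓ (D43.tw σ).fix := by
    rw [D43.diag_eq]
    exact ⟨w, (D43.thetaFix_iff w).2 ⟨hinv _, hv, rfl, rfl⟩, rfl⟩
  set T := tor chevD4 auxD4 w
  have hx : ∀ (r : ℕ) (t : K), r < chevD4.nroots →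
      T * X r t * T⁻¹ = X r ((chi chevD4 auxD4 w r : K) * t) := fun r t h => tor_conj_xG g₄ w h t
  have heq : T * P σ b a c d e f * T⁻¹ = Z ((chi chevD4 auxD4 w 14 : K) * b)
      ((chi chevD4 auxD4 w 18 : K) * a, (chi chevD4 auxD4 w 13 : K) * σ a,
        (chi chevD4 auxD4 w 12 : K) * σ (σ a))
      ((chi chevD4 auxD4 w 15 : K) * c, (chi chevD4 auxD4 w 19 : K) * σ c,
        (chi chevD4 auxD4 w 16 : K) * σ (σ c))
      ((chi chevD4 auxD4 w 17 : K) * d, (chi chevD4 auxD4 w 20 : K) * σ d,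
        (chi chevD4 auxD4 w 21 : K) * σ (σ d))
      ((chi chevD4 auxD4 w 22 : K) * e) ((chi chevD4 auxD4 w 23 : K) * f) := by
    simp only [P, Z, tr]
    rw [← conj_mul, ← conj_mul, ← conj_mul, ← conj_mul, ← conj_mul, ← conj_mul, ← conj_mul, ← conj_mul,
      ← conj_mul, ← conj_mul, ← conj_mul, hx _ _ (show (14 : ℕ) < chevD4.nroots by decide),
      hx _ _ (show (18 : ℕ) < chevD4.nroots by decide), hx _ _ (show (13 : ℕ) < chevD4.nroots by decide),
      hx _ _ (show (12 : ℕ) < chevD4.nroots by decide), hx _ _ (show (15 : ℕ) < chevD4.nroots by decide),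
      hx _ _ (show (19 : ℕ) < chevD4.nroots by decide), hx _ _ (show (16 : ℕ) < chevD4.nroots by decide),
      hx _ _ (show (17 : ℕ) < chevD4.nroots by decide), hx _ _ (show (20 : ℕ) < chevD4.nroots by decide),
      hx _ _ (show (21 : ℕ) < chevD4.nroots by decide), hx _ _ (show (22 : ℕ) < chevD4.nroots by decide),
      hx _ _ (show (23 : ℕ) < chevD4.nroots by decide)]
  have hfix : T * P σ b a c d e f * T⁻¹ ∈ (D43.tw σ).fix :=
    mul_mem (mul_mem hT.2 hy.2.1) (inv_mem hT.2)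
  obtain ⟨b', a', c', d', e', f', hb, he, hf, eq⟩ := exists_P (σ := σ) (by rw [heq]; exact Z_mem _ _ _ _ _ _) hfix
  obtain ⟨i1, i2, i3, i4, i5, i6⟩ := Z_inj (heq.symm.trans eq)
  simp only [tr, Prod.mk.injEq] at i2 i3 i4
  have hchi : ∀ r, chi chevD4 auxD4 w r =
      u ^ auxD4.cart 0 r * v ^ auxD4.cart 1 r * u1 ^ auxD4.cart 2 r * u2 ^ auxD4.cart 3 r := by
    intro r
    show ∏ i : Fin 4, (![u, v, u1, u2] : Fin 4 → Kˣ) i ^ auxD4.cart i.val r = _
    rw [Fin.prod_univ_four]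
    rfl
  obtain ⟨p180, p181, p182, p183⟩ : auxD4.cart 0 18 = 2 ∧ auxD4.cart 1 18 = -1 ∧ auxD4.cart 2 18 = 0 ∧ auxD4.cart 3 18 = 0 := by decide +kernel
  obtain ⟨p150, p151, p152, p153⟩ : auxD4.cart 0 15 = -1 ∧ auxD4.cart 1 15 = 1 ∧ auxD4.cart 2 15 = -1 ∧ auxD4.cart 3 15 = 1 := by decide +kernel
  obtain ⟨p230, p231, p232, p233⟩ : auxD4.cart 0 23 = 0 ∧ auxD4.cart 1 23 = 1 ∧ auxD4.cart 2 23 = 0 ∧ auxD4.cart 3 23 = 0 := by decide +kernel
  refine ⟨b', a', c', d', e', f', ?_, ⟨T, hT.2, eq⟩, hb, he, hf, ?_, ?_, ?_, ?_, ?_, ?_, ?_, ?_⟩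
  · refine eq ▸ ⟨by rw [heq]; exact Z_mem _ _ _ _ _ _, hfix, ?_⟩
    rw [conj_mul, hy.2.2, mul_one, mul_inv_cancel]
  · rintro rfl; simpa using i1.symm
  · rintro rfl; simpa using i2.1.symm
  · rintro rfl; simpa using i3.1.symm
  · rintro rfl; simpa using i4.1.symm
  · rintro rfl; simpa using i5.symm
  · rw [← i2.1, hchi, p180, p181, p182, p183]; simp
  · rw [← i3.1, hchi, p150, p151, p152, p153]; simp [u1, u2]
  · rw [← i6, hchi, p230, p231, p232, p233]; simp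

omit hinv in
lemma nJ_conj {j r : ℕ} (hj : j < foldD43.num) (hr : r < chevD4.nroots) :
    ∃ k : K, k ≠ 0 ∧ ∀ t, (D43.tw σ).nJ j * X r t * ((D43.tw σ).nJ j)⁻¹ =
      X (wf auxD4 (foldD43.w j) r) (k * t) :=
  ((D43.tw σ).nJ_acts hj).conj r hr

/-- a single long root element -/
lemma reach_long {e f : K} (he : σ e = e) (hf : σ f = f) (h : e ≠ 0 ∨ f ≠ 0) :
    Reach σ (P σ 0 0 0 0 e f) := by
  have last : ∀ f : K, σ f = f → f ≠ 0 → Reach σ (X 23 f) := by
    intro f hf hf0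
    have hN : Nice σ (P σ 0 0 0 0 0 f) := ⟨Z_mem _ _ _ _ _ _, P_fix hinv (map_zero σ) _ _ _ (map_zero σ) hf,
      by simp [P, Z, tr, X_zero, mm, CharTwo.add_self_eq_zero]⟩
    obtain ⟨b', a', c', d', e', f', -, hc, -, -, -, zb, za, zc, zd, ze, -, -, hf'⟩ :=
      torus_cj hinv 1 (Units.mk0 f hf0)⁻¹ (by simp [hf]) hN
    rw [zb rfl, za rfl, zc rfl, zd rfl, ze rfl, hf'] at hc
    refine .inl ?_
    simpa [P, Z, tr, X_zero, Lrep, hf0] using hc
  rcases eq_or_ne e 0 with rfl | he0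
  · simpa [P, Z, tr, X_zero] using last f hf (h.resolve_left (by simp))
  · obtain ⟨g1, g2, -⟩ := elL hinv (r := 14) (.inl rfl) (t := f / e) (by rw [map_div₀, he, hf])
    have h1 : X 14 (f / e) * P σ 0 0 0 0 e f * (X 14 (f / e))⁻¹ = X 22 e := by
      rw [inv_eq]
      simp only [P, Z, tr, map_zero, X_zero, one_mul]
      sortX
      simp [CharTwo.add_self_eq_zero, X_zero, div_mul_cancel₀ f he0]
    obtain ⟨k, hk, e2⟩ := nJ_conj (σ := σ) (K := K) (j := 0) (by decide) (r := 22) (by decide)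
    rw [show wf auxD4 (foldD43.w 0) 22 = 23 by decide +kernel] at e2
    have hn := (D43.tw σ).nJ_fix (j := 0) (by decide)
    have hke : σ (k * e) = k * e := by
      have hfix : X 23 (k * e) ∈ (D43.tw σ).fix := by
        rw [← e2]
        exact mul_mem (mul_mem hn (elL hinv (.inr rfl) he).2.1) (inv_mem hn)
      have e23 : X 23 (k * e) = Z 0 (0, 0, 0) (0, 0, 0) (0, 0, 0) 0 (k * e) := by simp [Z, X_zero]
      rw [e23] at hfix
      obtain ⟨b', a', c', d', e', f', -, -, hff, eq⟩ := exists_P (σ := σ) (Z_mem _ _ _ _ _ _) hfix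
      rw [(Z_inj eq).2.2.2.2.2]; exact hff
    exact Reach.of_cj ⟨_, g2, h1⟩
      (Reach.of_cj ⟨_, hn, e2 e⟩ (last _ hke (mul_ne_zero hk he0)))

/-- a non-trivial second coordinate with no simple ones -/
lemma reach_c {c d e f : K} (hc : c ≠ 0) (hy : Nice σ (P σ 0 0 c d e f)) : Reach σ (P σ 0 0 c d e f) := by
  obtain ⟨w, hw⟩ : ∃ w : K, w ^ 2 = c⁻¹ := by
    obtain ⟨s, hs⟩ := isSquare_of_charTwo' (c⁻¹ : K)
    exact ⟨s, by rw [sq, hs]⟩
  have hw0 : w ≠ 0 := fun h0 => hc (by simpa [h0] using hw.symm)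
  set u : Kˣ := Units.mk0 (σ w) ((map_ne_zero σ).2 hw0) with hu
  set v : Kˣ := Units.mk0 (σ w * σ (σ w) * w)
    (mul_ne_zero (mul_ne_zero ((map_ne_zero σ).2 hw0) ((map_ne_zero σ).2 ((map_ne_zero σ).2 hw0))) hw0) with hv
  obtain ⟨b', a', c', d', e', f', hN, hcj, -, he', hf', zb, za, -, -, -, -, hc', -⟩ :=
    torus_cj hinv u v (by simp only [hv, Units.val_mk0, map_mul, hinv]; ring) hy
  obtain rfl := zb rfl
  obtain rfl := za rfl
  have hc1 : c' = 1 := by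
    rw [hc', hu, hv]
    simp only [Units.val_mk0, hinv]
    have : w ^ 2 * c = 1 := by rw [hw, inv_mul_cancel₀ hc]
    have hw1 : σ w ≠ 0 := (map_ne_zero σ).2 hw0
    have hw2 : σ (σ w) ≠ 0 := (map_ne_zero σ).2 hw1
    field_simp
    linear_combination this
  subst hc1
  refine Reach.of_cj hcj ?_
  clear hy hcj hc' hu hv
  have hT := sq_zero hN.2.2
  simp only [map_one, one_mul, zero_mul, zero_add] at hT
  set Q := d' * σ d' + d' * σ (σ d') + σ d' * σ (σ d') with hQ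
  obtain ⟨s, hs⟩ : ∃ s : K, s ^ 2 = Q + e' := by
    obtain ⟨s, hs⟩ := isSquare_of_charTwo' (Q + e' : K)
    exact ⟨s, by rw [sq, hs]⟩
  have hσs : σ s = s := by
    refine CharTwo.sq_injective ?_
    show σ s ^ 2 = s ^ 2
    rw [← map_pow, hs, map_add, he', hQ]
    simp only [map_add, map_mul, hinv]
    ring
  have h2 := CharTwo.two_eq_zero (R := K)
  set t := d' + s with ht
  obtain ⟨g1, g2, g3⟩ := elA hinv t
  have step : ∃ f'' : K, X 18 t * (X 13 (σ t) * X 12 (σ (σ t))) * P σ 0 0 1 d' e' f' *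
      (X 18 t * (X 13 (σ t) * X 12 (σ (σ t)))) = Z 0 (tr σ 0) (tr σ 1) (tr σ 0) 0 f'' := by
    unfold P Z tr
    sortX
    refine ⟨_, congr_cons rfl (congr_cons ?_ (congr_cons ?_ (congr_cons ?_ (congr_cons ?_ (congr_cons ?_
      (congr_cons ?_ (congr_cons ?_ (congr_cons ?_ (congr_cons ?_ (congr_cons ?_ rfl))))))))))⟩
    all_goals simp only [ht, map_add, map_zero, map_one, hσs]
    · linear_combination t * h2
    · linear_combination (σ d' + s) * h2
    · linear_combination (σ (σ d') + s) * h2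
    · ring
    · ring
    · ring
    · linear_combination hT + s * h2
    · linear_combination hT + s * h2
    · linear_combination hT + s * h2
    · linear_combination hs + (d' + σ d' + σ (σ d') + s) * hT + (2 * s * s + (σ d' * s + s * d' + s * σ (σ d') - s ^ 2 + e')) * h2
  obtain ⟨f'', step⟩ := step
  obtain ⟨-, -, hf'', hN', hcj'⟩ := conj_P hinv hN g1 g2 g3 step
  refine Reach.of_cj hcj' ?_
  obtain ⟨k1, k2, k3⟩ := elD hinv f''
  refine Or.inr ⟨_, k2, ?_⟩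
  rw [inv_eq_of_mul_eq_one_right k3]
  unfold P Z
  simp only [tr, map_zero, map_one, X_zero, one_mul, hf'']
  sortX
  simp [CharTwo.add_self_eq_zero, X_zero, Srep]

/-- a non-trivial short simple coordinate -/
lemma reach_a {c d e f : K} {a : K} (ha : a ≠ 0) (hy : Nice σ (P σ 0 a c d e f)) :
    Reach σ (P σ 0 a c d e f) := by
  obtain ⟨w, hw⟩ : ∃ w : K, w ^ 2 = a⁻¹ := by
    obtain ⟨s, hs⟩ := isSquare_of_charTwo' (a⁻¹ : K)
    exact ⟨s, by rw [sq, hs]⟩
  have hw0 : w ≠ 0 := fun h0 => ha (by simpa [h0] using hw.symm)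
  obtain ⟨b', a', c', d', e', f', hN, hcj, -, he', hf', zb, -, -, -, -, ha', -, -⟩ :=
    torus_cj hinv (Units.mk0 w hw0) 1 (by simp) hy
  obtain rfl := zb rfl
  obtain rfl : a' = 1 := by simp [ha', hw, inv_mul_cancel₀ ha]
  refine Reach.of_cj hcj ?_
  clear hy hcj ha' he' hf'
  obtain ⟨hσc, -⟩ := sq_unit hinv hN.2.2
  obtain ⟨l1, l2, l3⟩ := elL hinv (r := 14) (.inl rfl) hσc
  have step : ∃ d e f, X 14 c' * P σ 0 1 c' d' e' f' * X 14 c' = Z 0 (tr σ 1) (tr σ 0) d e f := by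
    unfold P Z tr
    sortX
    refine ⟨(_, _, _), _, _, congr_cons ?_ (congr_cons rfl (congr_cons rfl (congr_cons rfl
      (congr_cons ?_ (congr_cons ?_ (congr_cons ?_ rfl))))))⟩
    all_goals simp [CharTwo.add_self_eq_zero, hσc]
  obtain ⟨d1, e1, f1, step⟩ := step
  obtain ⟨-, he, -, hN1, hcj1⟩ := conj_P hinv hN l1 l2 l3 step
  refine Reach.of_cj hcj1 ?_
  simp only [tr] at hN1 ⊢
  clear hcj1 step hN
  generalize d1.1 = d at hN1 ⊢
  obtain ⟨-, hT⟩ := sq_unit hinv hN1.2.2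
  simp only [zero_add] at hT
  have h2 := CharTwo.two_eq_zero (R := K)
  obtain ⟨c1, c2, c3⟩ := elC hinv (σ (σ d))
  have step : ∃ e f, X 15 (σ (σ d)) * (X 19 (σ (σ (σ d))) * X 16 (σ (σ (σ (σ d))))) *
      P σ 0 1 0 d e1 f1 * (X 15 (σ (σ d)) * (X 19 (σ (σ (σ d))) * X 16 (σ (σ (σ (σ d)))))) =
      Z 0 (tr σ 1) (tr σ 0) (tr σ 0) e f := by
    unfold P Z tr
    sortX
    refine ⟨_, _, congr_cons rfl (congr_cons rfl (congr_cons rfl (congr_cons rfl
      (congr_cons ?_ (congr_cons ?_ (congr_cons ?_ (congr_cons ?_ (congr_cons ?_ (congr_cons ?_ rfl)))))))))⟩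
    all_goals simp only [map_zero, map_one, hinv, one_mul, add_zero, CharTwo.add_self_eq_zero]
    all_goals linear_combination hT
  obtain ⟨e2, f2, step⟩ := step
  obtain ⟨-, he2, -, hN2, hcj2⟩ := conj_P hinv hN1 c1 c2 c3 step
  refine Reach.of_cj hcj2 ?_
  simp only [tr] at hN2 ⊢
  obtain ⟨k1, k2, k3⟩ := elD hinv e2
  have step : ∃ f, X 17 e2 * (X 20 (σ e2) * X 21 (σ (σ e2))) * P σ 0 1 0 0 e2 f2 *
      (X 17 e2 * (X 20 (σ e2) * X 21 (σ (σ e2)))) = Z 0 (tr σ 1) (tr σ 0) (tr σ 0) 0 f := by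
    unfold P Z tr
    sortX
    refine ⟨_, congr_cons rfl (congr_cons rfl (congr_cons rfl (congr_cons rfl (congr_cons rfl
      (congr_cons rfl (congr_cons rfl (congr_cons ?_ (congr_cons ?_ (congr_cons ?_
      (congr_cons ?_ rfl))))))))))⟩
    all_goals simp only [map_zero, map_one, he2, one_mul, add_zero, CharTwo.add_self_eq_zero]
  obtain ⟨f3, step⟩ := step
  obtain ⟨-, -, hf3, hN3, hcj3⟩ := conj_P hinv hN2 k1 k2 k3 step
  refine Reach.of_cj hcj3 ?_
  simp only [tr] at hN3 ⊢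
  have hn := (D43.tw σ).nJ_fix (j := 0) (by decide)
  set n := (D43.tw σ).nJ 0
  have hd : ∀ p ∈ [(18, 19), (13, 16), (12, 15), (23, 22)], p.1 < chevD4.nroots ∧
      wf auxD4 (foldD43.w 0) p.1 = p.2 := by
    decide +kernel
  obtain ⟨k18, hk18, e18⟩ := nJ_conj (σ := σ) (K := K) (j := 0) (by decide) (hd (18, 19) (by decide)).1
  obtain ⟨k13, hk13, e13⟩ := nJ_conj (σ := σ) (K := K) (j := 0) (by decide) (hd (13, 16) (by decide)).1
  obtain ⟨k12, hk12, e12⟩ := nJ_conj (σ := σ) (K := K) (j := 0) (by decide) (hd (12, 15) (by decide)).1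
  obtain ⟨k23, hk23, e23⟩ := nJ_conj (σ := σ) (K := K) (j := 0) (by decide) (hd (23, 22) (by decide)).1
  rw [(hd (18, 19) (by decide)).2] at e18
  rw [(hd (13, 16) (by decide)).2] at e13
  rw [(hd (12, 15) (by decide)).2] at e12
  rw [(hd (23, 22) (by decide)).2] at e23
  have e0 : n * P σ 0 1 0 0 0 f3 * n⁻¹ = Z 0 (0, 0, 0) (k12, k18, k13) (0, 0, 0) (k23 * f3) 0 := by
    simp only [P, Z, tr, map_zero, map_one, X_zero, one_mul, mul_one]
    rw [← conj_mul, ← conj_mul, ← conj_mul, e18, e13, e12, e23]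
    simp only [mul_one]
    sortX
  have hfix : n * P σ 0 1 0 0 0 f3 * n⁻¹ ∈ (D43.tw σ).fix := mul_mem (mul_mem hn hN3.2.1) (inv_mem hn)
  obtain ⟨b', a', c', d', e', f', -, -, -, eq⟩ := exists_P (σ := σ) (e0 ▸ Z_mem _ _ _ _ _ _) hfix
  obtain ⟨rfl, hA, hC, hD, rfl, rfl⟩ := Z_inj (e0.symm.trans eq)
  simp only [tr, Prod.mk.injEq] at hA hC hD
  obtain rfl := hA.1
  obtain rfl := hD.1
  refine Reach.of_cj ⟨n, hn, eq⟩ (reach_c hinv (by rw [← hC.1]; exact hk12) ?_)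
  exact eq ▸ ⟨e0 ▸ Z_mem _ _ _ _ _ _, hfix, by rw [conj_mul, hN3.2.2, mul_one, mul_inv_cancel]⟩

omit hinv in
lemma wf_one : ∀ p ∈ [(14, 22), (17, 19), (20, 16), (21, 15)], p.1 < chevD4.nroots ∧
    wf auxD4 (foldD43.w 1) p.1 = p.2 := by
  decide +kernel

/-- moving the highest short coordinate or the long simple one by the short reflection -/
lemma flip_one {b d : K} (hy : Nice σ (P σ b 0 0 d 0 0)) :
    ∃ c e : K, σ e = e ∧ Nice σ (P σ 0 0 c 0 e 0) ∧ Cj σ (P σ b 0 0 d 0 0) (P σ 0 0 c 0 e 0) ∧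
      (d ≠ 0 → c ≠ 0) ∧ (b ≠ 0 → e ≠ 0) := by
  have hn := (D43.tw σ).nJ_fix (j := 1) (by decide)
  set n := (D43.tw σ).nJ 1
  obtain ⟨k14, hk14, e14⟩ := nJ_conj (σ := σ) (K := K) (j := 1) (by decide) (wf_one (14, 22) (by decide)).1
  obtain ⟨k17, hk17, e17⟩ := nJ_conj (σ := σ) (K := K) (j := 1) (by decide) (wf_one (17, 19) (by decide)).1
  obtain ⟨k20, hk20, e20⟩ := nJ_conj (σ := σ) (K := K) (j := 1) (by decide) (wf_one (20, 16) (by decide)).1
  obtain ⟨k21, hk21, e21⟩ := nJ_conj (σ := σ) (K := K) (j := 1) (by decide) (wf_one (21, 15) (by decide)).1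
  rw [(wf_one (14, 22) (by decide)).2] at e14
  rw [(wf_one (17, 19) (by decide)).2] at e17
  rw [(wf_one (20, 16) (by decide)).2] at e20
  rw [(wf_one (21, 15) (by decide)).2] at e21
  have e0 : n * P σ b 0 0 d 0 0 * n⁻¹ =
      Z 0 (0, 0, 0) (k21 * σ (σ d), k17 * d, k20 * σ d) (0, 0, 0) (k14 * b) 0 := by
    simp only [P, Z, tr, map_zero, X_zero, one_mul, mul_one]
    rw [← conj_mul, ← conj_mul, ← conj_mul, e14, e17, e20, e21]
    sortX
  have hfix : n * P σ b 0 0 d 0 0 * n⁻¹ ∈ (D43.tw σ).fix := mul_mem (mul_mem hn hy.2.1) (inv_mem hn)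
  obtain ⟨b', a', c', d', e', f', -, he', -, eq⟩ := exists_P (σ := σ) (e0 ▸ Z_mem _ _ _ _ _ _) hfix
  obtain ⟨rfl, hA, hC, hD, rfl, rfl⟩ := Z_inj (e0.symm.trans eq)
  simp only [tr, Prod.mk.injEq] at hA hC hD
  obtain rfl := hA.1
  obtain rfl := hD.1
  exact ⟨c', _, he', eq ▸ ⟨e0 ▸ Z_mem _ _ _ _ _ _, hfix, by rw [conj_mul, hy.2.2, mul_one, mul_inv_cancel]⟩,
    ⟨n, hn, eq⟩, fun h => hC.1 ▸ mul_ne_zero hk21 (by simp [h]), fun h => mul_ne_zero hk14 h⟩

/-- every involution reaches a representative -/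
theorem reach {y : GL chevD4.Idx K} (hy : Nice σ y) (h1 : y ≠ 1) : Reach σ y := by
  obtain ⟨b, a, c, d, e, f, hb, he, hf, rfl⟩ := exists_P hy.1 hy.2.1
  rcases ne_or_eq a 0 with ha | rfl
  · obtain rfl : b = 0 := (mul_eq_zero.1 (sq_ab hy.2.2)).resolve_right ha
    exact reach_a hinv ha hy
  rcases ne_or_eq b 0 with hb0 | rfl
  · obtain ⟨g1, g2, g3⟩ := elA hinv (σ c / b)
    have e1 : σ (σ c / b) = σ (σ c) / b := by rw [map_div₀, hb]
    have e2 : σ (σ (σ c / b)) = c / b := by rw [e1, map_div₀, hb, hinv]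
    have step : ∃ d' e' f', X 18 (σ c / b) * (X 13 (σ (σ c / b)) * X 12 (σ (σ (σ c / b)))) *
        P σ b 0 c d e f * (X 18 (σ c / b) * (X 13 (σ (σ c / b)) * X 12 (σ (σ (σ c / b))))) =
          Z b (tr σ 0) (tr σ 0) d' e' f' := by
      rw [e2, e1]
      unfold P Z tr
      sortX
      refine ⟨(_, _, _), _, _, congr_cons rfl (congr_cons ?_ (congr_cons ?_ (congr_cons ?_
        (congr_cons ?_ (congr_cons ?_ (congr_cons ?_ rfl))))))⟩
      all_goals simp [CharTwo.add_self_eq_zero, mul_div_cancel₀ _ hb0]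
    obtain ⟨d1, e1', f1, step⟩ := step
    obtain ⟨-, -, hf1, hN, hcj⟩ := conj_P hinv hy g1 g2 g3 step
    refine Reach.of_cj hcj ?_
    simp only [tr] at hN ⊢
    generalize d1.1 = d1' at hN ⊢
    obtain rfl : e1' = 0 := by
      have := sq_zero hN.2.2
      simpa [hb0] using this
    obtain ⟨l1, l2, l3⟩ := elL hinv (r := 22) (.inr rfl) (t := f1 / b) (by rw [map_div₀, hf1, hb])
    have step : X 22 (f1 / b) * P σ b 0 0 d1' 0 f1 * X 22 (f1 / b) =
        Z b (tr σ 0) (tr σ 0) (tr σ d1') 0 0 := by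
      unfold P Z tr
      sortX
      simp [CharTwo.add_self_eq_zero, mul_div_cancel₀ _ hb0]
    obtain ⟨-, -, -, hN', hcj'⟩ := conj_P hinv hN l1 l2 l3 step
    refine Reach.of_cj hcj' ?_
    simp only [tr] at hN' ⊢
    obtain ⟨c2, e2', he2, hN2, hcj2, -, hne⟩ := flip_one hinv hN'
    refine Reach.of_cj hcj2 ?_
    rcases ne_or_eq c2 0 with hc2 | rfl
    · exact reach_c hinv hc2 hN2
    · exact reach_long hinv he2 (map_zero σ) (.inl (hne hb0))
  rcases ne_or_eq c 0 with hc | rfl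
  · exact reach_c hinv hc hy
  rcases ne_or_eq d 0 with hd | rfl
  · have hd1 : σ d ≠ 0 := (map_ne_zero σ).2 hd
    have hd2 : σ (σ d) ≠ 0 := (map_ne_zero σ).2 hd1
    have h2 := CharTwo.two_eq_zero (R := K)
    obtain ⟨g1, g2, g3⟩ := elA hinv (e / d)
    have step : X 18 (e / d) * (X 13 (σ (e / d)) * X 12 (σ (σ (e / d)))) * P σ 0 0 0 d e f *
        (X 18 (e / d) * (X 13 (σ (e / d)) * X 12 (σ (σ (e / d))))) =
          Z 0 (tr σ 0) (tr σ 0) (tr σ d) 0 f := by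
      unfold P Z tr
      sortX
      refine congr_cons rfl (congr_cons ?_ (congr_cons ?_ (congr_cons ?_ (congr_cons ?_ (congr_cons ?_
        (congr_cons ?_ (congr_cons ?_ (congr_cons ?_ (congr_cons ?_ (congr_cons ?_ ?_))))))))))
      rotate_right
      · congr 1
        simp
      all_goals simp [CharTwo.add_self_eq_zero, he, div_mul_cancel₀ _ hd, div_mul_cancel₀ _ hd1,
        div_mul_cancel₀ _ hd2]
    obtain ⟨-, -, -, hN, hcj⟩ := conj_P hinv hy g1 g2 g3 step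
    refine Reach.of_cj hcj ?_
    simp only [tr] at hN ⊢
    obtain ⟨c1, c2, c3⟩ := elC hinv (σ (σ (f / d)))
    have s1 : σ (σ (f / d)) = f / σ (σ d) := by rw [map_div₀, map_div₀, hf, hf]
    have s2 : σ (σ (σ (f / d))) = f / d := hinv _
    have s3 : σ (σ (σ (σ (f / d)))) = f / σ d := by rw [s2, map_div₀, hf]
    have step : X 15 (σ (σ (f / d))) * (X 19 (σ (σ (σ (f / d)))) * X 16 (σ (σ (σ (σ (f / d)))))) *
        P σ 0 0 0 d 0 f * (X 15 (σ (σ (f / d))) * (X 19 (σ (σ (σ (f / d)))) *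
          X 16 (σ (σ (σ (σ (f / d))))))) = Z 0 (tr σ 0) (tr σ 0) (tr σ d) 0 0 := by
      rw [s3, s2, s1]
      unfold P Z tr
      sortX
      simp [CharTwo.add_self_eq_zero, div_mul_cancel₀ _ hd, div_mul_cancel₀ _ hd1,
        div_mul_cancel₀ _ hd2]
    obtain ⟨-, -, -, hN', hcj'⟩ := conj_P hinv hN c1 c2 c3 step
    refine Reach.of_cj hcj' ?_
    simp only [tr] at hN' ⊢
    obtain ⟨c', e', he', hN2, hcj2, hne, -⟩ := flip_one hinv hN'
    exact Reach.of_cj hcj2 (reach_c hinv (hne hd) hN2)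
  refine reach_long hinv he hf ?_
  by_contra h
  push_neg at h
  exact h1 (by simp [P, Z, tr, h.1, h.2, X_zero])

end CfsgLib.Chev.D43Invol
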