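/-
The two involution classes of twisted D4 in characteristic two.
-/
import Cfsg.Agent.Lib.Chev.D43Invol.Reduce

set_option autoImplicit false
set_option maxRecDepth 100000
set_option maxHeartbeats 1000000

namespace CfsgLib.Chev.D43Invol

open Cfsg.Lie Matrix CfsgLib.Chev

/-- coefficient of a sparse vector -/
def coefAt (v : List (ℕ × ℤ)) (k : ℕ) : ℤ := (v.map fun p => if k = p.1 then p.2 else 0).sum

lemma sval_coef {K : Type*} [Field K] (v : List (ℕ × ℤ)) (x : chevD4.Idx) :
    sval (ev chevD4 K) v x = (coefAt v (idx chevD4 x) : K) := by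
  induction v with
  | nil => simp [sval, coefAt]
  | cons p v ih =>
    rw [sval_cons, Pi.add_apply, ih]
    simp only [coefAt, List.map_cons, List.sum_cons, Int.cast_add, Pi.smul_apply, ev]
    split_ifs <;> simp

/-- rows of the certificate -/
def certR : List ℕ := [19, 6, 9, 14, 0, 18, 1, 2, 16, 21, 24]
/-- columns of the certificate -/
def certC : List ℕ := [0, 4, 6, 7, 8, 9, 11, 12, 13, 16, 17]
/-- the inverse of the minor modulo two -/
def certN : List (List ℤ) :=
  [[1, 0, 0, 0, 1, 0, 1, 1, 0, 0, 0], [0, 1, 0, 0, 0, 0, 0, 0, 0, 0, 0], [0, 1, 0, 1, 0, 0, 0, 0, 0, 0, 0],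
   [0, 0, 1, 1, 0, 0, 0, 0, 0, 0, 0], [0, 0, 0, 0, 1, 0, 0, 0, 0, 0, 0], [0, 0, 1, 0, 0, 1, 0, 0, 0, 0, 0],
   [0, 0, 0, 0, 0, 0, 0, 1, 0, 0, 0], [0, 0, 0, 0, 1, 0, 1, 1, 0, 0, 0], [0, 0, 0, 0, 0, 0, 0, 0, 1, 0, 0],
   [0, 0, 0, 0, 0, 0, 0, 0, 1, 0, 1], [0, 0, 0, 0, 0, 0, 0, 0, 0, 1, 1]]
/-- the columns moved by the long representative -/
def movedL : List ℕ := [1, 4, 5, 6, 7, 8, 10, 11, 12, 13]

/-- integral entries of a word minus the identity -/
noncomputable def entry (w : List (ℕ × ℤ)) (i j : ℕ) : ℤ :=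
  coefAt (auxD4.appWord chevD4.rank chevD4.nroots w [(j, 1)]) i - if i = j then 1 else 0

lemma entry_eq {K : Type*} [Field K] {w : List (ℕ × ℤ)} (hw : ∀ p ∈ w, p.1 < chevD4.nroots)
    (x y : chevD4.Idx) :
    (chevD4.wordMat K (w.map fun p => (p.1, (p.2 : K))) - 1) x y =
      (entry w (idx chevD4 x) (idx chevD4 y) : K) := by
  have e := congrFun (sval_appWord (F := K) stdD4.good hw [(idx chevD4 y, 1)]) x
  rw [sval_coef, show sval (ev chevD4 K) [(idx chevD4 y, (1 : ℤ))] = ev chevD4 K (idx chevD4 y) by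
    simp [sval], mulVec_ev] at e
  rw [entry, Matrix.sub_apply, Matrix.one_apply, Int.cast_sub, e]
  by_cases h : x = y
  · simp [h]
  · rw [if_neg h, if_neg fun h' => h (idx_inj h')]
    simp

lemma cert_short : ∀ i : Fin 11, ∀ k : Fin 11,
    (∑ j : Fin 11, entry [(15, 1), (19, 1), (16, 1)] (certR.getD i.val 0) (certC.getD j.val 0) *
      (certN.getD j.val []).getD k.val 0) % 2 = if i = k then 1 else 0 := by
  decide +kernel

lemma cert_long : ∀ i : Fin 28, ∀ j : Fin 28, ¬ movedL.contains j.val →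
    entry [(23, 1)] i.val j.val % 2 = 0 := by
  decide +kernel

variable {K : Type*} [Field K] [CharP K 2]

lemma cast_two {a b : ℤ} (h : a % 2 = b % 2) : (a : K) = b := by
  exact (CharP.intCast_eq_intCast K 2).2 h

/-- the representatives are not similar -/
theorem not_similar (g : GL chevD4.Idx K) : g * Lrep K * g⁻¹ ≠ Srep K := by
  classical
  intro h
  let WL : List (ℕ × ℤ) := [(23, 1)]
  let WS : List (ℕ × ℤ) := [(15, 1), (19, 1), (16, 1)]
  set L0 : Matrix chevD4.Idx chevD4.Idx K := chevD4.wordMat K (WL.map fun p => (p.1, (p.2 : K))) - 1 with hL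
  set S0 : Matrix chevD4.Idx chevD4.Idx K := chevD4.wordMat K (WS.map fun p => (p.1, (p.2 : K))) - 1 with hS
  let G : Matrix chevD4.Idx chevD4.Idx K := g
  let G' : Matrix chevD4.Idx chevD4.Idx K := ((g⁻¹ : GL chevD4.Idx K) : Matrix _ _ K)
  have hconj : G * L0 * G' = S0 := by
    have e := congrArg (Units.val : GL chevD4.Idx K → Matrix chevD4.Idx chevD4.Idx K) h
    simp only [Lrep, Srep, X, Units.val_mul, xG_val] at e
    simp only [hL, hS, WL, WS, List.map_cons, List.map_nil, wordMat_cons, wordMat_nil, Int.cast_one, mul_one]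
    rw [mul_sub, sub_mul, e, mul_one, show G * G' = 1 from g.mul_inv]
  choose col hcol using fun j : Fin 28 => exists_idx (D := chevD4) (c := j.val) (by
    have := j.isLt
    show j.val < 4 + 24
    omega)
  have hlen : movedL.length = 10 := rfl
  let m : Fin 10 → chevD4.Idx := fun k => col ⟨movedL.getD k.val 0,
    (show ∀ k : Fin 10, movedL.getD k.val 0 < 28 by decide) k⟩
  let E : Matrix (Fin 10) chevD4.Idx K := fun k y => if m k = y then 1 else 0
  have hfac : L0 = L0.submatrix id m * E := by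
    ext x y
    rw [Matrix.mul_apply]
    simp only [Matrix.submatrix_apply, id_eq, E, mul_ite, mul_one, mul_zero]
    by_cases hy : ∃ k, m k = y
    · obtain ⟨k, rfl⟩ := hy
      have hinj : Function.Injective m := by
        intro a b e
        have := congrArg (idx chevD4) e
        simp only [m, hcol] at this
        exact (show ∀ a b : Fin 10, movedL.getD a.val 0 = movedL.getD b.val 0 → a = b by decide) a b this
      rw [Finset.sum_eq_single k (fun b _ hb => if_neg fun e => hb (hinj e)) (by simp), if_pos rfl]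
    · rw [Finset.sum_eq_zero fun b _ => if_neg fun e => hy ⟨b, e⟩, hL,
        entry_eq (by decide), ← Int.cast_zero]
      refine cast_two ?_
      have hx := idx_lt x
      have hy' := idx_lt y
      refine (cert_long ⟨_, hx⟩ ⟨_, hy'⟩ ?_).trans (by simp)
      simp only [Bool.not_eq_true, List.contains_eq_mem, decide_eq_false_iff_not]
      intro hm
      obtain ⟨k, hk, e⟩ := List.getElem_of_mem hm
      refine hy ⟨⟨k, hlen ▸ hk⟩, idx_inj ?_⟩
      simp only [m, hcol, List.getD_eq_getElem?_getD, List.getElem?_eq_getElem hk, Option.getD_some, e]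
  let R : Fin 11 → chevD4.Idx := fun i => col ⟨certR.getD i.val 0,
    (show ∀ k : Fin 11, certR.getD k.val 0 < 28 by decide) i⟩
  let C : Fin 11 → chevD4.Idx := fun i => col ⟨certC.getD i.val 0,
    (show ∀ k : Fin 11, certC.getD k.val 0 < 28 by decide) i⟩
  let N : Matrix (Fin 11) (Fin 11) K := fun j k => (((certN.getD j.val []).getD k.val 0 : ℤ) : K)
  have hone : S0.submatrix R C * N = 1 := by
    ext i k
    rw [Matrix.mul_apply, Matrix.one_apply]
    simp only [Matrix.submatrix_apply, hS, N]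
    simp only [entry_eq (K := K) (w := WS) (by decide), R, C, hcol, ← Int.cast_mul, ← Int.cast_sum]
    rw [cast_two (b := if i = k then 1 else 0) (by rw [cert_short i k]; split_ifs <;> rfl)]
    split_ifs <;> simp
  have hrank : (S0.submatrix R C * N).rank ≤ 10 := by
    have e : S0.submatrix R C * N =
        (G * L0.submatrix id m).submatrix R id * ((E * G').submatrix id C * N) := by
      rw [← Matrix.mul_assoc, ← Matrix.submatrix_mul _ _ R id C Function.bijective_id,
        Matrix.mul_assoc G, ← Matrix.mul_assoc (L0.submatrix id m), ← hfac, ← Matrix.mul_assoc, hconj]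
    rw [e]
    exact (Matrix.rank_mul_le_left _ _).trans ((Matrix.rank_le_card_width _).trans (le_of_eq (Fintype.card_fin 10)))
  rw [hone, Matrix.rank_one, Fintype.card_fin] at hrank
  omega

variable [Fintype K] {q : ℕ} {σ : K →+* K}

/-- every involution of the fixed group is conjugate into the unipotent subgroup -/
theorem cj_into_pos (hσ : ∀ x, σ x = x ^ q) (hK : Fintype.card K = q ^ 3) {y : GL chevD4.Idx K}
    (hy : y ∈ (D43.tw σ).fix) (h2 : orderOf y = 2) :
    ∃ z, z ∈ chevD4.posUnipotent K ∧ Cj σ y z := by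
  classical
  haveI : Fact (Nat.Prime 2) := ⟨Nat.prime_two⟩
  haveI : Finite (GL chevD4.Idx K) := finite_GL
  set G := (D43.tw σ).fix
  obtain ⟨hU, hG⟩ := D43.orders hσ hK
  obtain ⟨n, -, hn⟩ := FiniteField.card K 2
  obtain ⟨b, rfl⟩ : ∃ b, q = 2 ^ b := by
    obtain ⟨b, -, e⟩ := (Nat.dvd_prime_pow Nat.prime_two).1 (hn ▸ hK ▸ dvd_pow_self q three_ne_zero)
    exact ⟨b, e⟩
  have hb : b ≠ 0 := fun e => by
    subst e
    have := D43.two_le hK
    omega
  set U : Subgroup ↥G := (chevD4.posUnipotent K ⊓ G).subgroupOf G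
  have hUc : Nat.card U = (2 ^ b) ^ 12 := by
    rw [Nat.card_congr (Subgroup.subgroupOfEquivOfLe inf_le_right).toEquiv, hU]
  have hidx : ¬ 2 ∣ U.index := by
    have h1 := U.card_mul_index
    rw [hUc, hG, mul_assoc _ _ (_ ^ 6 - 1), mul_assoc _ _ (_ + _ + 1)] at h1
    rw [Nat.eq_of_mul_eq_mul_left (pow_pos (pow_pos two_pos b) 12) h1]
    have he : ∀ a, a ≠ 0 → 2 ∣ (2 ^ b) ^ a := fun a ha => dvd_pow (dvd_pow_self 2 hb) ha
    have h2' := he 2 (by decide)
    have h4 := he 4 (by decide)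
    have h6 := he 6 (by decide)
    have h8 := he 8 (by decide)
    have p2 : 0 < (2 ^ b) ^ 2 := by positivity
    have p6 : 0 < (2 ^ b) ^ 6 := by positivity
    refine Nat.Prime.not_dvd_mul Nat.prime_two (Nat.Prime.not_dvd_mul Nat.prime_two ?_ ?_) ?_ <;> omega
  let P : Sylow 2 ↥G := (IsPGroup.of_card (n := b * 12) (by rw [hUc, ← pow_mul])).toSylow hidx
  set z : ↥G := ⟨y, hy⟩
  have hz : IsPGroup 2 (Subgroup.zpowers z) := IsPGroup.of_card (n := 1) (by
    rw [Nat.card_zpowers, pow_one]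
    exact (Subgroup.orderOf_mk y hy).trans h2)
  obtain ⟨S, hS⟩ := hz.exists_le_sylow
  obtain ⟨k, hk⟩ := MulAction.exists_smul_eq ↥G S P
  have h3 : k * z * k⁻¹ ∈ U := by
    have h4 : (P : Subgroup ↥G) = U := rfl
    rw [← h4, ← hk, Sylow.coe_subgroup_smul]
    exact ⟨z, hS (Subgroup.mem_zpowers z), rfl⟩
  exact ⟨_, (Subgroup.mem_inf.1 (Subgroup.mem_subgroupOf.1 h3)).1, k, k.2, rfl⟩

/-- exactly two classes -/
theorem class_count (hσ : ∀ x, σ x = x ^ q) (hK : Fintype.card K = q ^ 3) :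
    (ConjClasses.mk '' {g : ↥(D43.tw σ).fix | orderOf g = 2}).ncard = 2 := by
  classical
  haveI : Finite (GL chevD4.Idx K) := finite_GL
  set G := (D43.tw σ).fix
  have hinv := D43.invol hσ hK
  have hLm : Lrep K ∈ G := by
    rw [show Lrep K = P σ 0 0 0 0 0 1 by simp [Lrep, P, Z, tr, X_zero]]
    exact P_fix hinv (map_zero σ) _ _ _ (map_zero σ) (map_one σ)
  have hSm : Srep K ∈ G := by
    rw [show Srep K = P σ 0 0 1 0 0 0 by simp [Srep, P, Z, tr, X_zero]]
    exact P_fix hinv (map_zero σ) _ _ _ (map_zero σ) (map_zero σ)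
  let L : ↥G := ⟨_, hLm⟩
  let S : ↥G := ⟨_, hSm⟩
  have hL2 : orderOf L = 2 := by
    rw [← Subgroup.orderOf_coe, orderOf_eq_prime_iff]
    refine ⟨?_, fun e => ?_⟩
    · show Lrep K ^ 2 = 1
      rw [sq, Lrep, mm, CharTwo.add_self_eq_zero, X_zero]
    · have := (Z_inj (b := 0) (a := (0, 0, 0)) (c := (0, 0, 0)) (d := (0, 0, 0)) (e := (0 : K)) (f := (1 : K))
        ((show Z 0 (0, 0, 0) (0, 0, 0) (0, 0, 0) (0 : K) 1 = Lrep K by simp [Z, X_zero, Lrep]).trans
          (e.trans one_Z))).2.2.2.2.2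
      exact one_ne_zero this
  have hS2 : orderOf S = 2 := by
    rw [← Subgroup.orderOf_coe, orderOf_eq_prime_iff]
    refine ⟨?_, fun e => ?_⟩
    · show Srep K ^ 2 = 1
      rw [sq, Srep]
      sortX
      simp [CharTwo.add_self_eq_zero, X_zero]
    · have := (Z_inj (b := 0) (a := (0, 0, 0)) (c := ((1 : K), 1, 1)) (d := (0, 0, 0)) (e := 0) (f := 0)
        ((show Z 0 (0, 0, 0) ((1 : K), 1, 1) (0, 0, 0) 0 0 = Srep K by simp [Z, X_zero, Srep]).trans
          (e.trans one_Z))).2.2.1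
      exact one_ne_zero (congrArg Prod.fst this)
  have himg : ConjClasses.mk '' {g : ↥G | orderOf g = 2} = {ConjClasses.mk L, ConjClasses.mk S} := by
    refine Set.Subset.antisymm ?_ ?_
    · rintro _ ⟨g, hg, rfl⟩
      have hg2 : orderOf (g : GL chevD4.Idx K) = 2 := (Subgroup.orderOf_coe g).trans hg
      obtain ⟨z, hzU, k, hk, hz⟩ := cj_into_pos hσ hK g.2 hg2
      have hzf : z ∈ G := hz ▸ mul_mem (mul_mem hk g.2) (inv_mem hk)
      have hgg : (g : GL chevD4.Idx K) * g = 1 := by rw [← sq, ← hg2, pow_orderOf_eq_one]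
      have hzz : z * z = 1 := by rw [← hz, conj_mul, hgg, mul_one, mul_inv_cancel]
      have hz1 : z ≠ 1 := fun e => by
        rw [e, conj_eq_one_iff] at hz
        rw [hz, orderOf_one] at hg2
        omega
      rcases Reach.of_cj ⟨k, hk, hz⟩ (reach hinv ⟨hzU, hzf, hzz⟩ hz1) with ⟨c, hc, e⟩ | ⟨c, hc, e⟩
      · exact .inl (ConjClasses.mk_eq_mk_iff_isConj.2 (isConj_iff.2 ⟨⟨c, hc⟩, Subtype.ext e⟩))
      · exact .inr (ConjClasses.mk_eq_mk_iff_isConj.2 (isConj_iff.2 ⟨⟨c, hc⟩, Subtype.ext e⟩))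
    · rintro _ (rfl | rfl)
      exacts [⟨L, hL2, rfl⟩, ⟨S, hS2, rfl⟩]
  rw [himg]
  refine Set.ncard_pair fun e => ?_
  obtain ⟨c, hc⟩ := isConj_iff.1 (ConjClasses.mk_eq_mk_iff_isConj.1 e)
  exact not_similar (c : GL chevD4.Idx K) (congrArg Subtype.val hc)

end CfsgLib.Chev.D43Invol
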